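import Cfsg.Agent.H308.CA.Stmts

/-!
# Basic facts on `TA`
-/

set_option autoImplicit false
set_option linter.unusedSectionVars false

namespace Cfsg.Agent.H308.CA

open Matrix

universe u

section Sc

variable {ι : Type} [Fintype ι] [DecidableEq ι] {E : Type} [CommRing E] [StarRing E]

theorem Sc.refl (x : Matrix ι ι E) : Sc x x := ⟨1, by rw [star_one, one_mul], (one_smul _ _).symm⟩

theorem Sc.symm {x y : Matrix ι ι E} (h : Sc x y) : Sc y x := by
  obtain ⟨c, hc, rfl⟩ := h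
  refine ⟨star c, by rw [star_star, mul_comm, hc], ?_⟩
  rw [smul_smul, hc, one_smul]

theorem Sc.trans {x y z : Matrix ι ι E} (h : Sc x y) (h' : Sc y z) : Sc x z := by
  obtain ⟨c, hc, rfl⟩ := h
  obtain ⟨d, hd, rfl⟩ := h'
  refine ⟨c * d, ?_, by rw [smul_smul]⟩
  rw [star_mul]
  calc star d * star c * (c * d) = (star c * c) * (star d * d) := by ring
    _ = 1 := by rw [hc, hd, one_mul]

theorem Sc.mul {x y x' y' : Matrix ι ι E} (h : Sc x y) (h' : Sc x' y') : Sc (x * x') (y * y') := by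
  obtain ⟨c, hc, rfl⟩ := h
  obtain ⟨d, hd, rfl⟩ := h'
  refine ⟨c * d, ?_, by rw [smul_mul_smul_comm]⟩
  rw [star_mul]
  calc star d * star c * (c * d) = (star c * c) * (star d * d) := by ring
    _ = 1 := by rw [hc, hd, one_mul]

theorem Sc.pow {x y : Matrix ι ι E} (h : Sc x y) (n : ℕ) : Sc (x ^ n) (y ^ n) := by
  induction n with
  | zero => rw [pow_zero, pow_zero]; exact Sc.refl _
  | succ n ih => rw [pow_succ, pow_succ]; exact ih.mul h

theorem Sc.star {x y : Matrix ι ι E} (h : Sc x y) : Sc (star x) (star y) := by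
  obtain ⟨c, hc, rfl⟩ := h
  refine ⟨Star.star c, by rw [star_star, mul_comm, hc], ?_⟩
  rw [star_smul]

/-- a matrix commuting with all unitary matrices... the centre -/
theorem exists_scalar {x : Matrix ι ι E} (h : ∀ a : Matrix ι ι E, x * a = a * x) : ∃ c : E, x = c • (1 : Matrix ι ι E) := by
  rcases isEmpty_or_nonempty ι with hι | hι
  · exact ⟨1, Matrix.ext fun i => hι.elim i⟩
  · have h1 : x ∈ Set.range (Matrix.scalar ι) := by
      rw [Matrix.mem_range_scalar_iff_commute_single']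
      intro i j
      exact (h _).symm
    obtain ⟨c, hc⟩ := h1
    exact ⟨c, by rw [← hc, Matrix.smul_one_eq_diagonal]; rfl⟩

/-- the scalar elements of `SU` -/
def scal (ι : Type) [Fintype ι] [DecidableEq ι] (E : Type) [CommRing E] [StarRing E] : Subgroup (SU ι E) where
  carrier := {u | Sc (mt u) 1}
  one_mem' := by
    show Sc (mt 1) 1
    rw [map_one]
    exact Sc.refl _
  mul_mem' := by
    intro a b ha hb
    show Sc (mt (a * b)) 1
    rw [map_mul, ← mul_one (1 : Matrix ι ι E)]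
    exact Sc.mul ha hb
  inv_mem' := by
    intro a ha
    show Sc (mt a⁻¹) 1
    rw [mt_inv, ← star_one]
    exact Sc.star ha

theorem mem_scal {u : SU ι E} : u ∈ scal ι E ↔ Sc (mt u) 1 := Iff.rfl

theorem scal_comm {u v : SU ι E} (hu : u ∈ scal ι E) : u * v = v * u := by
  obtain ⟨c, -, hc⟩ := hu
  apply mt_injective
  rw [map_mul, map_mul, hc, smul_mul_assoc, one_mul, mul_smul_comm, mul_one]

/-- an element of `SU` commuting with everything is scalar -/
theorem sc_of_comm {u : SU ι E} (h : ∀ a : Matrix ι ι E, mt u * a = a * mt u) : Sc (mt u) 1 := by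
  obtain ⟨c, hc⟩ := exists_scalar h
  rcases isEmpty_or_nonempty ι with hι | hι
  · exact ⟨1, by rw [star_one, one_mul], Matrix.ext fun i => hι.elim i⟩
  refine ⟨c, ?_, hc⟩
  have h1 := star_mt_mul u
  rw [hc, star_smul, star_one, smul_mul_smul_comm, one_mul] at h1
  obtain ⟨i⟩ := hι
  have h2 := congrFun (congrFun h1 i) i
  rwa [Matrix.smul_apply, Matrix.one_apply_eq, smul_eq_mul, mul_one] at h2

end Sc

namespace TA

variable {Γ : Type u} [Group Γ] {ι : Type} [Fintype ι] [DecidableEq ι] {E : Type} [CommRing E] [StarRing E]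
variable (T : TA Γ ι E)

theorem ρ_mul (g h : Γ) (a : Matrix ι ι E) : T.ρ (g * h) a = T.ρ g (T.ρ h a) := by
  rw [map_mul]; rfl

theorem ρ_one (a : Matrix ι ι E) : T.ρ 1 a = a := by
  rw [map_one]; rfl

theorem ρ_inv (g : Γ) (a : Matrix ι ι E) : T.ρ g⁻¹ (T.ρ g a) = a := by
  rw [← ρ_mul, inv_mul_cancel, ρ_one]

theorem ρ_inv' (g : Γ) (a : Matrix ι ι E) : T.ρ g (T.ρ g⁻¹ a) = a := by
  rw [← ρ_mul, mul_inv_cancel, ρ_one]

theorem ρ_smul_one (g : Γ) {c : E} (hc : star c * c = 1) : Sc (T.ρ g (c • (1 : Matrix ι ι E))) 1 := by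
  have h1 : ∀ a, T.ρ g (c • (1 : Matrix ι ι E)) * a = a * T.ρ g (c • (1 : Matrix ι ι E)) := by
    intro a
    have h2 : (c • (1 : Matrix ι ι E)) * T.ρ g⁻¹ a = T.ρ g⁻¹ a * (c • (1 : Matrix ι ι E)) := by
      rw [smul_mul_assoc, one_mul, mul_smul_comm, mul_one]
    have h3 := congrArg (T.ρ g) h2
    rwa [map_mul, map_mul, ρ_inv'] at h3
  obtain ⟨d, hd⟩ := exists_scalar h1
  rcases isEmpty_or_nonempty ι with hι | hι
  · exact ⟨1, by rw [star_one, one_mul], Matrix.ext fun i => hι.elim i⟩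
  refine ⟨d, ?_, hd⟩
  have h4 : star (T.ρ g (c • (1 : Matrix ι ι E))) * T.ρ g (c • (1 : Matrix ι ι E)) = 1 := by
    rw [← T.st, ← map_mul, star_smul, star_one, smul_mul_smul_comm, hc, one_mul, one_smul, map_one]
  rw [hd, star_smul, star_one, smul_mul_smul_comm, one_mul] at h4
  obtain ⟨i⟩ := hι
  have h2 := congrFun (congrFun h4 i) i
  rwa [Matrix.smul_apply, Matrix.one_apply_eq, smul_eq_mul, mul_one] at h2

/-- `ρ` preserves proportionality -/
theorem ρ_sc (g : Γ) {x y : Matrix ι ι E} (h : Sc x y) : Sc (T.ρ g x) (T.ρ g y) := by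
  obtain ⟨c, hc, rfl⟩ := h
  have h1 : c • y = (c • (1 : Matrix ι ι E)) * y := by rw [smul_mul_assoc, one_mul]
  rw [h1, map_mul]
  have h2 := (T.ρ_smul_one g hc).mul (Sc.refl (T.ρ g y))
  rwa [one_mul] at h2

theorem ρ_isP (g : Γ) {e : Matrix ι ι E} (h : IsP e) : IsP (T.ρ g e) :=
  ⟨by rw [← map_mul, h.idem], by rw [← T.st, h.sym]⟩

/-- the stabiliser of the line of `x` -/
def stab (x : Matrix ι ι E) : Subgroup Γ where
  carrier := {g | Sc (T.ρ g x) x}
  one_mem' := by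
    show Sc (T.ρ 1 x) x
    rw [T.ρ_one]; exact Sc.refl _
  mul_mem' := by
    intro g h hg hh
    show Sc (T.ρ (g * h) x) x
    rw [T.ρ_mul]
    exact (T.ρ_sc g hh).trans hg
  inv_mem' := by
    intro g hg
    show Sc (T.ρ g⁻¹ x) x
    have := T.ρ_sc g⁻¹ hg
    rw [T.ρ_inv] at this
    exact this.symm

theorem mem_stab {x : Matrix ι ι E} {g : Γ} : g ∈ T.stab x ↔ Sc (T.ρ g x) x := Iff.rfl

/-- the stabiliser of an element -/
def fixer (e : Matrix ι ι E) : Subgroup Γ where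
  carrier := {g | T.ρ g e = e}
  one_mem' := T.ρ_one e
  mul_mem' := by
    intro g h hg hh
    show T.ρ (g * h) e = e
    rw [T.ρ_mul, hh, hg]
  inv_mem' := by
    intro g hg
    show T.ρ g⁻¹ e = e
    have := T.ρ_inv g e
    rwa [hg] at this

theorem mem_fixer {e : Matrix ι ι E} {g : Γ} : g ∈ T.fixer e ↔ T.ρ g e = e := Iff.rfl

variable (hD : DetSt E)

/-- the action on `SU` -/
def act (g : Γ) (u : SU ι E) : SU ι E :=
  mkSU (T.ρ g (mt u)) (by rw [← T.st, ← map_mul, star_mt_mul, map_one]) (hD ι (T.ρ g) (T.st g) u)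

@[simp] theorem mt_act (g : Γ) (u : SU ι E) : mt (T.act hD g u) = T.ρ g (mt u) := rfl

include hD in
theorem conj_eq (g : Γ) (u : SU ι E) : g * T.j u * g⁻¹ = T.j (T.act hD g u) := T.conj_j g u _ (T.mt_act hD g u)

include hD in
theorem range_normal : T.j.range.Normal := by
  refine ⟨?_⟩
  rintro _ ⟨u, rfl⟩ g
  rw [T.conj_eq hD]
  exact ⟨_, rfl⟩

/-- the image of the scalars -/
def Z : Subgroup Γ := (scal ι E).map T.j

theorem Z_le : T.Z ≤ T.j.range := by
  rintro _ ⟨u, -, rfl⟩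
  exact ⟨u, rfl⟩

include hD in
theorem Z_normal : T.Z.Normal := by
  refine ⟨?_⟩
  rintro _ ⟨u, hu, rfl⟩ g
  rw [T.conj_eq hD]
  refine ⟨_, ?_, rfl⟩
  rw [SetLike.mem_coe, mem_scal, T.mt_act]
  have := T.ρ_sc g hu
  rwa [map_one] at this

theorem Z_comm {z s : Γ} (hz : z ∈ T.Z) (hs : s ∈ T.j.range) : z * s = s * z := by
  obtain ⟨u, hu, rfl⟩ := hz
  obtain ⟨v, rfl⟩ := hs
  rw [← map_mul, scal_comm hu, map_mul]

/-- `j u ∈ Z` iff `u` is scalar -/
theorem j_mem_Z {u : SU ι E} : T.j u ∈ T.Z ↔ Sc (mt u) 1 := by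
  constructor
  · rintro ⟨v, hv, h⟩
    have h1 : T.j (v⁻¹ * u) = 1 := by rw [map_mul, map_inv, h, inv_mul_cancel]
    have h2 : Sc (mt (v⁻¹ * u)) 1 := by
      apply sc_of_comm
      intro a
      have h3 := T.ρ_j (v⁻¹ * u) a
      rw [h1, T.ρ_one] at h3
      calc mt (v⁻¹ * u) * a = mt (v⁻¹ * u) * a * (star (mt (v⁻¹ * u)) * mt (v⁻¹ * u)) := by rw [star_mt_mul, mul_one]
        _ = (mt (v⁻¹ * u) * a * star (mt (v⁻¹ * u))) * mt (v⁻¹ * u) := by rw [mul_assoc, mul_assoc, mul_assoc]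
        _ = a * mt (v⁻¹ * u) := by rw [← h3]
    have h4 : u ∈ scal ι E := by
      have := (scal ι E).mul_mem hv h2
      rwa [mul_inv_cancel_left] at this
    exact h4
  · intro h
    exact ⟨u, h, rfl⟩

theorem j_stab {x : SU ι E} {g : SU ι E} : T.j g ∈ T.stab (mt x) ↔ Sc (mt (g * x * g⁻¹)) (mt x) := by
  rw [mem_stab, T.ρ_j, map_mul, map_mul, mt_inv]

end TA

end Cfsg.Agent.H308.CA
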