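import Cfsg.Agent.H308.CA.Defs

/-!
# The coefficient rings: `E` a finite field with a nontrivial involution or `F × F`
-/

set_option autoImplicit false

namespace Cfsg.Agent.H308.CA

theorem Gd.finite {E : Type} [CommRing E] [StarRing E] (h : Gd E) : Finite E := by
  cases h
  · infer_instance
  · assumption

theorem Gd.nontrivial {E : Type} [CommRing E] [StarRing E] (h : Gd E) : Nontrivial E := by
  cases h
  · infer_instance
  · infer_instance

/-- a nonzero symmetric element is a unit -/
theorem Gd.isUnit_of_sym {E : Type} [CommRing E] [StarRing E] (h : Gd E) {a : E} (ha : star a = a) (h0 : a ≠ 0) :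
    IsUnit a := by
  cases h with
  | lin F i _ =>
    obtain ⟨x, y⟩ := a
    have h1 : y = x := congrArg Prod.fst ha
    subst h1
    have hy : y ≠ 0 := by
      rintro rfl
      exact h0 rfl
    exact Prod.isUnit_iff.2 ⟨isUnit_iff_ne_zero.2 hy, isUnit_iff_ne_zero.2 hy⟩
  | uni F i s _ hs => exact isUnit_iff_ne_zero.2 h0

/-- a nonzero skew element is a unit -/
theorem Gd.isUnit_of_skew {E : Type} [CommRing E] [StarRing E] (h : Gd E) {a : E} (ha : star a = -a) (h0 : a ≠ 0) :
    IsUnit a := by
  cases h with
  | lin F i _ =>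
    obtain ⟨x, y⟩ := a
    have h1 : y = -x := congrArg Prod.fst ha
    subst h1
    have hx : x ≠ 0 := by
      rintro rfl
      apply h0
      change ((0, -0) : F × F) = (0, 0)
      rw [neg_zero]
    exact Prod.isUnit_iff.2 ⟨isUnit_iff_ne_zero.2 hx, isUnit_iff_ne_zero.2 (neg_ne_zero.2 hx)⟩
  | uni F i s _ hs => exact isUnit_iff_ne_zero.2 h0

/-- the trace form is nondegenerate -/
theorem Gd.trace {E : Type} [CommRing E] [StarRing E] (h : Gd E) {a : E} (h0 : a ≠ 0) :
    ∃ c : E, c * a + star (c * a) ≠ 0 := by
  cases h with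
  | lin F i _ =>
    obtain ⟨x, y⟩ := a
    by_cases hx : x = 0
    · have hy : y ≠ 0 := by
        rintro rfl
        exact h0 (by rw [hx]; rfl)
      refine ⟨((0, 1) : F × F), fun hc => ?_⟩
      have h1 := congrArg Prod.fst hc
      change (0 : F) * x + 1 * y = 0 at h1
      rw [zero_mul, zero_add, one_mul] at h1
      exact hy h1
    · refine ⟨((1, 0) : F × F), fun hc => ?_⟩
      have h1 := congrArg Prod.fst hc
      change (1 : F) * x + 0 * y = 0 at h1
      rw [zero_mul, add_zero, one_mul] at h1
      exact hx h1
  | uni F i s _ hs =>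
    by_contra hcon
    push Not at hcon
    have h1 : ∀ b : E, b + star b = 0 := by
      intro b
      have h2 := hcon (b * a⁻¹)
      rwa [inv_mul_cancel_right₀ h0] at h2
    have h2 := h1 1
    rw [star_one] at h2
    obtain ⟨b, hb⟩ := hs
    apply hb
    have h3 := h1 b
    have h4 : b + b = 0 := by rw [← mul_one b, ← mul_add, h2, mul_zero]
    exact add_left_cancel (h3.trans h4.symm)

/-- the norm is surjective onto the symmetric units -/
theorem Gd.norm {E : Type} [CommRing E] [StarRing E] (h : Gd E) {a : E} (ha : star a = a) (h0 : a ≠ 0) :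
    ∃ c : E, star c * c = a := by
  cases h with
  | lin F i _ =>
    obtain ⟨x, y⟩ := a
    have h1 : y = x := congrArg Prod.fst ha
    subst h1
    refine ⟨((y, 1) : F × F), ?_⟩
    change ((1 * y, y * 1) : F × F) = (y, y)
    rw [one_mul, mul_one]
  | uni F i s _ hs =>
    classical
    -- the groups
    let N : Eˣ →* Eˣ := 
      { toFun := fun c => ⟨star (c : E) * c, star ((c⁻¹ : Eˣ) : E) * ((c⁻¹ : Eˣ) : E), by
          rw [mul_mul_mul_comm, ← star_mul, Units.inv_mul, star_one, Units.mul_inv, one_mul], by
          rw [mul_mul_mul_comm, ← star_mul, Units.mul_inv, star_one, Units.inv_mul, one_mul]⟩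
        map_one' := by ext; simp
        map_mul' := fun c d => by ext; simp [star_mul]; ring }
    let H : Eˣ →* Eˣ := 
      { toFun := fun c => ⟨star (c : E) * ((c⁻¹ : Eˣ) : E), star ((c⁻¹ : Eˣ) : E) * c, by
          rw [mul_mul_mul_comm, ← star_mul, Units.inv_mul, star_one, one_mul], by
          rw [mul_mul_mul_comm, ← star_mul, Units.mul_inv, star_one, one_mul]⟩
        map_one' := by ext; simp
        map_mul' := fun c d => by ext; simp [star_mul]; ring }
    have hNv : ∀ c : Eˣ, ((N c : Eˣ) : E) = star (c : E) * c := fun c => rfl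
    have hHv : ∀ c : Eˣ, ((H c : Eˣ) : E) = star (c : E) * ((c⁻¹ : Eˣ) : E) := fun c => rfl
    have hH1 : ∀ c : Eˣ, H c = 1 ↔ star (c : E) = c := by
      intro c
      rw [Units.ext_iff, hHv, Units.val_one, Units.mul_inv_eq_one]
    -- Hilbert 90
    have h90 : N.ker = H.range := by
      ext u
      rw [MonoidHom.mem_ker, MonoidHom.mem_range, Units.ext_iff, hNv, Units.val_one]
      constructor
      · intro hu
        obtain ⟨b, hb⟩ : ∃ b : E, star b + star (u : E) * b ≠ 0 := by
          by_contra hcon
          push Not at hcon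
          have h2 := hcon 1
          rw [star_one, mul_one] at h2
          obtain ⟨b, hb⟩ := hs
          apply hb
          have h3 := hcon b
          have h4 : star (u : E) = -1 := (eq_neg_of_add_eq_zero_right h2)
          rw [h4, neg_one_mul, ← sub_eq_add_neg, sub_eq_zero] at h3
          exact h3
        -- d = b + u b^*
        have hd : star (star b + star (u : E) * b) = (u : E) * (star b + star (u : E) * b) := by
          rw [star_add, star_star, star_mul, star_star, mul_add, ← mul_assoc, mul_comm (u : E) (star (u : E)), hu, one_mul,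
            mul_comm (star b), add_comm]
        refine ⟨Units.mk0 _ hb, ?_⟩
        rw [Units.ext_iff, hHv, Units.mul_inv_eq_iff_eq_mul, Units.val_mk0]
        exact hd
      · rintro ⟨c, rfl⟩
        rw [hHv, star_mul, star_star]
        have e : star ((c⁻¹ : Eˣ) : E) * star (c : E) = 1 := by rw [← star_mul, Units.mul_inv, star_one]
        calc star ((c⁻¹ : Eˣ) : E) * (c : E) * (star (c : E) * ((c⁻¹ : Eˣ) : E)) =
              (star ((c⁻¹ : Eˣ) : E) * star (c : E)) * ((c : E) * ((c⁻¹ : Eˣ) : E)) := by ring
          _ = 1 := by rw [e, Units.mul_inv, one_mul]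
    -- counting
    have hr : N.range = H.ker := by
      have hle : N.range ≤ H.ker := by
        rintro _ ⟨c, rfl⟩
        rw [MonoidHom.mem_ker, hH1, hNv, star_mul, star_star]
      have hf : Finite Eˣ := inferInstance
      have c1 := Subgroup.card_mul_index N.ker
      rw [Subgroup.index_ker] at c1
      have c2 := Subgroup.card_mul_index H.ker
      rw [Subgroup.index_ker] at c2
      rw [h90] at c1
      have c3 : Nat.card N.range = Nat.card H.ker := by
        have hpos : 0 < Nat.card H.range := Nat.card_pos
        have e : Nat.card H.range * Nat.card N.range = Nat.card H.range * Nat.card H.ker := by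
          rw [c1, mul_comm, c2]
        exact Nat.eq_of_mul_eq_mul_left hpos e
      exact Subgroup.eq_of_le_of_card_ge hle c3.ge
    have hm : Units.mk0 a h0 ∈ H.ker := by
      rw [MonoidHom.mem_ker, hH1]
      exact ha
    rw [← hr] at hm
    obtain ⟨c, hc⟩ := hm
    refine ⟨c, ?_⟩
    rw [← hNv, hc]
    rfl

/-- the group of norm one elements is cyclic -/
theorem Gd.cyclic {E : Type} [CommRing E] [StarRing E] (h : Gd E) : IsCyclic (unitary E) := by
  cases h with
  | lin F i _ =>
    let f : unitary (Ex F) →* F := 
      { toFun := fun a => (a : Ex F).1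
        map_one' := rfl
        map_mul' := fun _ _ => rfl }
    refine isCyclic_of_injective_ringHom f ?_
    intro a b hab
    have h1 : ∀ a : unitary (Ex F), (a : Ex F).2 * (a : Ex F).1 = 1 := fun a =>
      congrArg Prod.fst (Unitary.mem_iff.1 a.2).1
    have hab' : (a : Ex F).1 = (b : Ex F).1 := hab
    refine Subtype.ext (Prod.ext hab' ?_)
    have h2 := h1 a
    rw [hab', ← h1 b] at h2
    have hne : (b : Ex F).1 ≠ 0 := by
      intro hz
      have := h1 b
      rw [hz, mul_zero] at this
      exact zero_ne_one this
    exact mul_right_cancel₀ hne h2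
  | uni F i s _ hs =>
    exact isCyclic_of_injective_ringHom (unitary E).subtype Subtype.val_injective

theorem Gd.star_ne {E : Type} [CommRing E] [StarRing E] (h : Gd E) : ∃ a : E, star a ≠ a := by
  cases h with
  | lin F i _ =>
    refine ⟨((0, 1) : F × F), fun hc => ?_⟩
    exact one_ne_zero (congrArg Prod.fst hc)
  | uni F i s _ hs => exact hs

/-- a skew unit (in characteristic two a symmetric one) -/
theorem Gd.skew {E : Type} [CommRing E] [StarRing E] (h : Gd E) :
    ∃ k : E, IsUnit k ∧ star k = -k := by
  obtain ⟨a, ha⟩ := h.star_ne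
  refine ⟨a - star a, ?_, by rw [star_sub, star_star, neg_sub]⟩
  exact h.isUnit_of_skew (by rw [star_sub, star_star, neg_sub]) (sub_ne_zero.2 ha.symm)

end Cfsg.Agent.H308.CA
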