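import Mathlib

/-!
# Type A star rings (S3852, Carter subgroups, linear and unitary groups; helper308)

`E` is a finite field with a nontrivial involution `star`, or `Ex F = F × F` with the exchange; `Matrix ι ι E` is a
star ring; `SU ι E` is the group of its unitary elements of determinant one (`SU_n(q)` resp. `SL_n(F)`).

`TA Γ ι E`: a group `Γ` acting on `Matrix ι ι E` by star ring automorphisms, with a homomorphism `j : SU ι E →* Γ`
such that `j u` acts by conjugation with `u`.
-/

set_option autoImplicit false

namespace Cfsg.Agent.H308.CA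

open Matrix

universe u

/-- `F × F` with the exchange involution -/
def Ex (F : Type) : Type := F × F

instance (F : Type) [Field F] : CommRing (Ex F) := inferInstanceAs (CommRing (F × F))

instance (F : Type) [Finite F] : Finite (Ex F) := inferInstanceAs (Finite (F × F))

instance (F : Type) [Nontrivial F] : Nontrivial (Ex F) := inferInstanceAs (Nontrivial (F × F))

instance (F : Type) [Field F] : StarRing (Ex F) where
  star a := (a.2, a.1)
  star_involutive a := rfl
  star_mul a b := by
    change ((a.2 * b.2, a.1 * b.1) : F × F) = (b.2 * a.2, b.1 * a.1)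
    rw [mul_comm a.2, mul_comm a.1]
  star_add a b := rfl

theorem Ex.star_def {F : Type} [Field F] (a : Ex F) : star a = ((a.2, a.1) : F × F) := rfl

/-- the two kinds of coefficient rings -/
inductive Good : (E : Type) → (i : CommRing E) → (s : StarRing E) → Prop
  | lin (F : Type) (i : Field F) (h : Finite F) : Good (Ex F) inferInstance inferInstance
  | uni (F : Type) (i : Field F) (s : StarRing F) (h : Finite F) (hs : ∃ a : F, star a ≠ a) : Good F i.toCommRing s

/-- `E` is a finite field with nontrivial involution, or `F × F` with the exchange -/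
abbrev Gd (E : Type) [i : CommRing E] [s : StarRing E] : Prop := Good E i s

section

variable (ι : Type) [Fintype ι] [DecidableEq ι] (E : Type) [CommRing E] [StarRing E]

/-- the special unitary group -/
def SU : Subgroup (unitary (Matrix ι ι E)) :=
  MonoidHom.ker ((Matrix.detMonoidHom (n := ι) (R := E)).comp (unitary (Matrix ι ι E)).subtype)

end

section

variable {ι : Type} [Fintype ι] [DecidableEq ι] {E : Type} [CommRing E] [StarRing E]

theorem mem_SU {u : unitary (Matrix ι ι E)} : u ∈ SU ι E ↔ (u : Matrix ι ι E).det = 1 := Iff.rfl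

/-- the matrix of an element of `SU` -/
def mt : SU ι E →* Matrix ι ι E := (unitary (Matrix ι ι E)).subtype.comp (SU ι E).subtype

theorem mt_det (u : SU ι E) : (mt u).det = 1 := u.2

theorem star_mt_mul (u : SU ι E) : star (mt u) * mt u = 1 := (Unitary.mem_iff.1 u.1.2).1

theorem mt_mul_star (u : SU ι E) : mt u * star (mt u) = 1 := (Unitary.mem_iff.1 u.1.2).2

theorem mt_inv (u : SU ι E) : mt u⁻¹ = star (mt u) := rfl

theorem mt_injective : Function.Injective (mt : SU ι E → Matrix ι ι E) := fun _ _ h =>
  Subtype.ext (Subtype.ext h)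

/-- an element of `SU` from a matrix -/
def mkSU (a : Matrix ι ι E) (h1 : star a * a = 1) (h2 : a.det = 1) : SU ι E :=
  ⟨⟨a, Unitary.mem_iff.2 ⟨h1, mul_eq_one_comm.1 h1⟩⟩, h2⟩

@[simp] theorem mt_mkSU (a : Matrix ι ι E) (h1 : star a * a = 1) (h2 : a.det = 1) : mt (mkSU a h1 h2) = a := rfl

/-- symmetric idempotents -/
structure IsP (e : Matrix ι ι E) : Prop where
  idem : e * e = e
  sym : star e = e

/-- the number `r` with `|{v | e v = v}| = |E|^r` -/
noncomputable def rk (e : Matrix ι ι E) : ℕ := Nat.log (Nat.card E) (Nat.card {v : ι → E // e *ᵥ v = v})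

/-- the diagonal idempotent of a set of coordinates -/
def dg (p : ι → Prop) [DecidablePred p] : Matrix ι ι E := Matrix.diagonal fun x => if p x then 1 else 0

/-- `x` is a scalar multiple of `y`, by a scalar of norm one -/
def Sc (x y : Matrix ι ι E) : Prop := ∃ c : E, star c * c = 1 ∧ x = c • y

end

/-- `Γ` acts on `Matrix ι ι E` by star ring automorphisms, `j : SU → Γ` is compatible with it. -/
structure TA (Γ : Type u) [Group Γ] (ι : Type) [Fintype ι] [DecidableEq ι] (E : Type) [CommRing E] [StarRing E] where
  /-- the action -/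
  ρ : Γ →* RingAut (Matrix ι ι E)
  st : ∀ g a, ρ g (star a) = star (ρ g a)
  /-- the inner elements -/
  j : SU ι E →* Γ
  ρ_j : ∀ (u : SU ι E) a, ρ (j u) a = mt u * a * star (mt u)
  conj_j : ∀ (g : Γ) (u v : SU ι E), mt v = ρ g (mt u) → g * j u * g⁻¹ = j v

end Cfsg.Agent.H308.CA
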