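import Cfsg.Agent.H308.CA.TGrp
import Cfsg.Agent.H35.CA.Red

/-!
# Reductions: corners and centralisers; the step for odd primes different from the characteristic
-/

set_option autoImplicit false
set_option linter.unusedSectionVars false
set_option linter.unusedVariables false

namespace Cfsg.Agent.H308.CA

open Subgroup Pointwise
open Cfsg.Agent.Solvable.Carter Cfsg.Agent.H18.Carter Cfsg.Agent.H381.Car

universe u

/-- a reduction of `T` to a smaller star ring, on a subgroup `M ≥ K` -/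
structure RedS {Γ : Type u} [Group Γ] {ι : Type} [Fintype ι] [DecidableEq ι] {E : Type} [CommRing E] [StarRing E]
    (T : TA Γ ι E) (K : Subgroup Γ) (ι' : Type) [Fintype ι'] [DecidableEq ι'] (E' : Type) [CommRing E'] [StarRing E'] where
  φ : Matrix ι' ι' E' →ₙ+* Matrix ι ι E
  M : Subgroup Γ
  T' : TA ↥M ι' E'
  inj : Function.Injective φ
  st : ∀ a, φ (star a) = star (φ a)
  le : K ≤ M
  eqv : ∀ (m : M) a, φ (T'.ρ m a) = T.ρ m (φ a)
  jr : ∀ u : SU ι' E', ∃ v : SU ι E, mt v = φ (mt u) + (1 - φ 1) ∧ (T'.j u : Γ) = T.j v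

/-- `K` fixes a proper symmetric idempotent -/
def PropFix {Γ : Type u} [Group Γ] {ι : Type} [Fintype ι] [DecidableEq ι] {E : Type} [CommRing E] [StarRing E]
    (T : TA Γ ι E) (K : Subgroup Γ) : Prop := ∃ e : Matrix ι ι E, IsP e ∧ e ≠ 0 ∧ e ≠ 1 ∧ ∀ k ∈ K, T.ρ k e = e

/-- `K ∩ SU` has an element of order `r` modulo scalars -/
def Hex {Γ : Type u} [Group Γ] {ι : Type} [Fintype ι] [DecidableEq ι] {E : Type} [CommRing E] [StarRing E]
    (T : TA Γ ι E) (K : Subgroup Γ) (r : ℕ) : Prop := ∃ k ∈ K, k ∈ T.j.range ∧ k ∉ T.Z ∧ k ^ r ∈ T.Z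

section

variable {Γ : Type u} [Group Γ] {ι : Type} [Fintype ι] [DecidableEq ι] {E : Type} [CommRing E] [StarRing E]
  {T : TA Γ ι E} {K : Subgroup Γ} {ι' : Type} [Fintype ι'] [DecidableEq ι'] {E' : Type} [CommRing E'] [StarRing E']

namespace RedS

variable (R : RedS T K ι' E')

theorem isP {a : Matrix ι' ι' E'} (ha : IsP a) : IsP (R.φ a) :=
  ⟨by rw [← map_mul, ha.idem], by rw [← R.st, ha.sym]⟩

theorem fix {a : Matrix ι' ι' E'} (h : ∀ m ∈ K.subgroupOf R.M, R.T'.ρ m a = a) : ∀ k ∈ K, T.ρ k (R.φ a) = R.φ a := by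
  intro k hk
  have h1 := R.eqv ⟨k, R.le hk⟩ a
  rw [h ⟨k, R.le hk⟩ hk] at h1
  exact h1.symm

theorem carter (hK : IsCarter K) : IsCarter (K.subgroupOf R.M) := hK.subgroupOf R.le

theorem ne_zero {a : Matrix ι' ι' E'} (ha : a ≠ 0) : R.φ a ≠ 0 := fun h => ha (R.inj (by rw [h, map_zero]))

/-- proper idempotents of the small ring are proper in the big one -/
theorem propFix (h1 : R.φ 1 = 1) (h : PropFix R.T' (K.subgroupOf R.M)) : PropFix T K := by
  obtain ⟨e, he, h0, h1', hf⟩ := h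
  exact ⟨R.φ e, R.isP he, R.ne_zero h0, fun hc => h1' (R.inj (by rw [hc, h1])), R.fix hf⟩

theorem range_le : R.T'.j.range.map R.M.subtype ≤ T.j.range := by
  rintro _ ⟨_, ⟨u, rfl⟩, rfl⟩
  obtain ⟨v, -, hv⟩ := R.jr u
  exact ⟨v, hv.symm⟩

/-- invariant subgroups of the small group -/
theorem map_inv {Q : Subgroup R.M} (hQ : K.subgroupOf R.M ≤ normalizer (Q : Set R.M)) :
    K ≤ normalizer ((Q.map R.M.subtype : Subgroup Γ) : Set Γ) := by
  have key : ∀ k ∈ K, ∀ x ∈ Q.map R.M.subtype, k * x * k⁻¹ ∈ Q.map R.M.subtype := by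
    rintro k hk _ ⟨x, hx, rfl⟩
    exact ⟨⟨k, R.le hk⟩ * x * ⟨k, R.le hk⟩⁻¹, (mem_normalizer_iff.1 (hQ (x := ⟨k, R.le hk⟩) hk) x).1 hx, rfl⟩
  intro k hk
  rw [mem_normalizer_iff]
  intro x
  refine ⟨key k hk x, fun h => ?_⟩
  have h1 := key k⁻¹ (inv_mem hk) _ h
  have e : k⁻¹ * (k * x * k⁻¹) * k⁻¹⁻¹ = x := by group
  rwa [e] at h1

end RedS


theorem corner (h : Gd E) (T : TA Γ ι E) {K : Subgroup Γ} {e : Matrix ι ι E} (he : IsP e)
    (hK : ∀ k ∈ K, T.ρ k e = e) :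
    ∃ (ι' : Type) (_ : Fintype ι') (_ : DecidableEq ι') (R : RedS T K ι' E), R.φ 1 = e ∧ Fintype.card ι' = rk e ∧
      ∀ a, IsP a → rk (R.φ a) = rk a := by
  obtain ⟨ι', i1, i2, φ, M, T', h1, h2, h3, h4, h5, h6, h7, h8⟩ :=
    Cfsg.Agent.H35.CA.exists_corner h (Cfsg.Agent.H248.CA.onSt h) T he hK
  exact ⟨ι', i1, i2, ⟨φ, M, T', h1, h2, h6, h7, h8⟩, h3, h4, h5⟩

/-- **The step** for an odd prime different from the characteristic. -/
theorem step (h : Gd E) (hD : DetSt E) (hPC : PCSt E) (hEig : EigSt E) (hEX : EXSt E) [Finite Γ] (hS : Sml Γ)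
    (hK : IsCarter K) {r : ℕ} (hr : r.Prime) (hr2 : r ≠ 2) (hru : IsUnit (r : E)) (hex : Hex T K r) :
    PropFix T K ∨ ∃ (m : ℕ) (E' : Type) (i : CommRing E') (s : StarRing E'), Good E' i s ∧ Fintype.card ι = r * m ∧
      r ∣ m ∧ (∀ p : ℕ, CharP E p → CharP E' p) ∧ ∃ R : RedS T K (Fin m) E', R.φ 1 = 1 := by
  haveI : Fact r.Prime := ⟨hr⟩
  obtain ⟨x, hxK, hx1, hxr, hxK'⟩ := T.central_mod hD hS hK hex
  by_cases hrd : r ∣ Nat.card (unitary E)
  · obtain ⟨l, hl, hxl⟩ := id hxr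
    by_cases hm : ∃ m : E, star m * m = 1 ∧ m ^ r = l
    · obtain ⟨m, hm1, hm2⟩ := hm
      rcases hEig ι r hr hr2 hru hrd x m hm1 (by rw [hm2]; exact hxl) hx1 with ⟨g, a, ha, hg⟩ | ⟨e, he, h0, h1, hf⟩
      · exact absurd (T.not_conj_pow hS hK hxK' hr hxr hx1 hg) ha
      · exact Or.inl ⟨e, he, h0, h1, fun k hk => hf (T.ρ k) (T.st k) (hxK' k hk)⟩
    · push Not at hm
      obtain ⟨m, E', i, s, φ, hG, hc, hrm, hinj, hst, hrange, hdet, hchar⟩ := hEX ι r hr hr2 hru x l hl hxl hm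
      refine Or.inr ⟨m, E', i, s, hG, hc, hrm, hchar, ?_⟩
      letI := i
      letI := s
      obtain ⟨M, T', h1, h2, h3⟩ := Cfsg.Agent.H35.CA.exists_red T (K := K) (φ : Matrix (Fin m) (Fin m) E' →ₙ+* Matrix ι ι E)
        hinj hst (by
          intro u
          change (φ (mt u) + (1 - φ 1)).det = 1
          rw [map_one, sub_self, add_zero]
          exact hdet u) (by
          intro k hk a
          change ∃ b, T.ρ k (φ a) = φ b
          have h4 : T.ρ k (φ a) ∈ Set.range φ := by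
            rw [hrange]
            obtain ⟨c, hc1, hc2⟩ := hxK' k hk
            have h5 : φ a * mt x = mt x * φ a := (hrange _).1 ⟨a, rfl⟩
            have h6 := congrArg (T.ρ k) h5
            rw [map_mul, map_mul, hc2, mul_smul_comm, smul_mul_assoc] at h6
            have h7 := congrArg (fun z => star c • z) h6
            simp only [smul_smul, hc1, one_smul] at h7
            exact h7
          obtain ⟨b, hb⟩ := h4
          exact ⟨b, hb.symm⟩)
      exact ⟨⟨φ, M, T', hinj, hst, h1, h2, h3⟩, map_one φ⟩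
  · obtain ⟨g, a, ha, hg⟩ := hPC ι r hr hr2 hru hrd x hxr hx1
    exact absurd (T.not_conj_pow hS hK hxK' hr hxr hx1 hg) ha

end

end Cfsg.Agent.H308.CA
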