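import Cfsg.Agent.H308.CA.Coef

/-!
# The pure statements about the star rings `Matrix ι ι E` used for the Carter subgroups of type A
-/

set_option autoImplicit false

namespace Cfsg.Agent.H308.CA

open Matrix

section

variable (E : Type) [CommRing E] [StarRing E]

/-- (ON) symmetric decompositions of `1` are diagonalisable -/
def ONSt : Prop :=
  ∀ (ι κ : Type) [Fintype ι] [DecidableEq ι] [Fintype κ] [DecidableEq κ] (e : κ → Matrix ι ι E),
    (∀ i, IsP (e i)) → (∀ i j, i ≠ j → e i * e j = 0) → ∑ i, e i = 1 →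
    ∃ (u : SU ι E) (c : ι → κ), ∀ i, e i = star (mt u) * dg (fun x => c x = i) * mt u

/-- (DET) star ring automorphisms preserve `SU` -/
def DetSt : Prop :=
  ∀ (ι : Type) [Fintype ι] [DecidableEq ι] (θ : RingAut (Matrix ι ι E)), (∀ a, θ (star a) = star (θ a)) →
    ∀ u : SU ι E, (θ (mt u)).det = 1

/-- (PC) power conjugacy of semisimple elements of order prime to `q - ε` -/
def PCSt : Prop :=
  ∀ (ι : Type) [Fintype ι] [DecidableEq ι] (r : ℕ), r.Prime → r ≠ 2 → IsUnit (r : E) → ¬ r ∣ Nat.card (unitary E) →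
    ∀ x : SU ι E, Sc (mt x ^ r) 1 → ¬ Sc (mt x) 1 →
      ∃ (g : SU ι E) (a : ℕ), ¬ a ≡ 1 [MOD r] ∧ Sc (mt (g * x * g⁻¹)) (mt x ^ a)

/-- (EX) the centraliser of an exotic element, `x ^ r = l`, `l` not an `r`-th power -/
def EXSt : Prop :=
  ∀ (ι : Type) [Fintype ι] [DecidableEq ι] (r : ℕ), r.Prime → r ≠ 2 → IsUnit (r : E) →
    ∀ (x : SU ι E) (l : E), star l * l = 1 → mt x ^ r = l • (1 : Matrix ι ι E) →
      (∀ m : E, star m * m = 1 → m ^ r ≠ l) →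
      ∃ (m : ℕ) (E' : Type) (i : CommRing E') (s : StarRing E') (φ : Matrix (Fin m) (Fin m) E' →+* Matrix ι ι E),
        Good E' i s ∧ Fintype.card ι = r * m ∧ r ∣ m ∧ Function.Injective φ ∧ (∀ a, φ (star a) = star (φ a)) ∧
        (∀ b, b ∈ Set.range φ ↔ b * mt x = mt x * b) ∧ (∀ u : SU (Fin m) E', (φ (mt u)).det = 1) ∧
        (∀ p : ℕ, CharP E p → CharP E' p)

/-- (TWO) a `2`-group is an orthogonal sum of pieces of `2`-power rank -/
def TwoSt : Prop :=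
  IsUnit (2 : E) → ∀ (ι : Type) [Fintype ι] [DecidableEq ι] (T : Subgroup (SU ι E)), IsPGroup 2 T →
    ∃ (m : ℕ) (e : Fin m → Matrix ι ι E), (∀ i, IsP (e i)) ∧ (∀ i j, i ≠ j → e i * e j = 0) ∧ ∑ i, e i = 1 ∧
      (∀ i, ∀ t ∈ T, mt t * e i = e i * mt t) ∧ ∀ i, ∃ a : ℕ, rk (e i) = 2 ^ a

/-- the bad unipotent elements: `p = 3`, `(y - 1) ^ 2 = 0`, an odd number `k` of Jordan blocks, all of size `2` -/
def BadU (p : ℕ) {ι : Type} [Fintype ι] [DecidableEq ι] (y : SU ι E) : Prop :=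
  p = 3 ∧ (mt y - 1) ^ 2 = 0 ∧ ∃ k : ℕ, Odd k ∧ Fintype.card ι = 2 * k ∧
    Nat.card {v : ι → E // (mt y - 1) *ᵥ v = 0} = Nat.card E ^ k

/-- (UNI) unipotent elements of order `p` are conjugate to proper powers, except the bad ones -/
def UniSt : Prop :=
  ∀ (p : ℕ), p.Prime → p ≠ 2 → CharP E p → ∀ (ι : Type) [Fintype ι] [DecidableEq ι] (y : SU ι E), y ^ p = 1 → y ≠ 1 →
    (∃ (g : SU ι E) (a : ℕ), ¬ a ≡ 1 [MOD p] ∧ g * y * g⁻¹ = y ^ a) ∨ BadU E p y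

/-- (BOR) a subgroup `Q.2` of `SU` normalised by everything that normalises a Sylow `p`-subgroup -/
def BorSt : Prop :=
  ∀ (p : ℕ), p.Prime → p ≠ 2 → CharP E p → ∀ (ι : Type) [Fintype ι] [DecidableEq ι], 3 ≤ Fintype.card ι →
    ∀ T : Subgroup (SU ι E), IsPGroup p T → ¬ p ∣ T.index →
      ∃ Q Y : Subgroup (SU ι E), Q ≤ Y ∧ IsPGroup p Q ∧ Q.relIndex Y = 2 ∧ (∀ y ∈ Y, Sc (mt y) 1 → y ∈ Q) ∧
        ∀ θ : RingAut (Matrix ι ι E), (∀ a, θ (star a) = star (θ a)) → (∀ t ∈ T, ∃ t' ∈ T, mt t' = θ (mt t)) →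
          (∀ q ∈ Q, ∃ q' ∈ Q, mt q' = θ (mt q)) ∧ ∀ y ∈ Y, ∃ y' ∈ Y, mt y' = θ (mt y)

/-- (INV) an involution modulo scalars commuting with a bad unipotent element has eigenspaces of different ranks -/
def InvSt : Prop :=
  ∀ (ι : Type) [Fintype ι] [DecidableEq ι] (y : SU ι E), BadU E 3 y → CharP E 3 →
    ∀ (x : SU ι E) (l : E), mt x ^ 2 = l • (1 : Matrix ι ι E) → x * y = y * x →
      ∃ m : E, star m * m = 1 ∧ m ^ 2 = l ∧
        rk ((2 : E) • (1 + star m • mt x)) ≠ rk ((2 : E) • (1 - star m • mt x))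

end

end Cfsg.Agent.H308.CA
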